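import Cfsg.Agent.Lib.Orth.CharTwo

/-!
Vanishing of the first cohomology of `Ω(Q)` over the field with two elements on its natural module:
a crossed homomorphism which is a coboundary on a set of elements `L` is a coboundary, as soon as the group
generated by `L` is normalised by one transvection `r_v` and is transitive enough on non-singular vectors.
If `L` is a chain of fixed-point-free elements with consecutive members commuting, the first hypothesis is
automatic.
-/

set_option autoImplicit false
set_option linter.unusedSectionVars false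

namespace CfsgLib.HOne79

open Matrix QuadraticMap CfsgLib.Orth

variable {ι : Type} [Fintype ι] [DecidableEq ι] {Q : QuadraticForm (ZMod 2) (ι → ZMod 2)}

/-- crossed homomorphisms from `Ω(Q)` to the natural module -/
def IsCocycle (f : commutator (O Q) → (ι → ZMod 2)) : Prop :=
  ∀ g h, f (g * h) = f g + app g.1 (f h)

/-- coboundaries -/
def IsCobound (f : commutator (O Q) → (ι → ZMod 2)) : Prop :=
  ∃ v, ∀ g, f g = app g.1 v - v

theorem cocycle_one {f : commutator (O Q) → (ι → ZMod 2)} (hf : IsCocycle f) : f 1 = 0 := by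
  have h := hf 1 1
  rw [mul_one] at h
  have h2 : app ((1 : commutator (O Q)) : O Q) (f 1) = f 1 := by simp
  rw [h2] at h
  exact left_eq_add.mp h

theorem cocycle_sub {f : commutator (O Q) → (ι → ZMod 2)} (hf : IsCocycle f) (v : ι → ZMod 2) :
    IsCocycle fun g => f g - (app g.1 v - v) := by
  intro g h
  simp only [hf g h, Subgroup.coe_mul, app_mul, map_sub]
  abel

/-- the kernel of a crossed homomorphism -/
def kerSub {f : commutator (O Q) → (ι → ZMod 2)} (hf : IsCocycle f) : Subgroup (commutator (O Q)) where
  carrier := {g | f g = 0}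
  one_mem' := cocycle_one hf
  mul_mem' := by
    intro a b ha hb
    simp only [Set.mem_setOf_eq] at ha hb ⊢
    rw [hf, ha, hb, map_zero, add_zero]
  inv_mem' := by
    intro a ha
    simp only [Set.mem_setOf_eq] at ha ⊢
    have h := hf a a⁻¹
    rw [mul_inv_cancel, cocycle_one hf, ha, zero_add] at h
    exact (app_injective (a : O Q)) (h.symm.trans (map_zero _).symm)

/-- a crossed homomorphism killing a fixed-point-free `z` kills everything commuting with `z` -/
theorem kills_commuting {f : commutator (O Q) → (ι → ZMod 2)} (hf : IsCocycle f)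
    {z c : commutator (O Q)} (hz : f z = 0) (hfpf : ∀ x, app z.1 x = x → x = 0) (hzc : z * c = c * z) :
    f c = 0 := by
  have h1 := hf z c
  have h2 := hf c z
  rw [hz, map_zero, add_zero] at h2
  rw [hzc, hz, zero_add, h2] at h1
  exact hfpf _ h1.symm

/-- a chain of fixed-point-free elements with commuting neighbours: coboundary on all of them -/
theorem chain_cobound {f : commutator (O Q) → (ι → ZMod 2)} (hf : IsCocycle f)
    {n : ℕ} (L : Fin (n + 1) → commutator (O Q)) (hfpf : ∀ i x, app (L i).1 x = x → x = 0)
    (hc : ∀ i : Fin n, L i.castSucc * L i.succ = L i.succ * L i.castSucc) :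
    ∃ v, ∀ i, f (L i) = app (L i).1 v - v := by
  have hinj : Function.Injective fun x => app (L 0).1 x - x := by
    intro x y h
    refine sub_eq_zero.mp (hfpf 0 _ ?_)
    rw [map_sub]
    exact sub_eq_sub_iff_sub_eq_sub.mp h
  obtain ⟨v, hv⟩ := Finite.surjective_of_injective hinj (f (L 0))
  refine ⟨v, fun i => ?_⟩
  have key : ∀ i, (fun g => f g - (app g.1 v - v)) (L i) = 0 := by
    intro i
    induction i using Fin.induction with
    | zero => simp only at hv ⊢; rw [← hv, sub_self]
    | succ i ih => exact kills_commuting (cocycle_sub hf v) ih (hfpf _) (hc i)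
  exact sub_eq_zero.mp (key i)

/-- the certificate that a set of elements of `Ω(Q)` generates it -/
structure GenCert (Q : QuadraticForm (ZMod 2) (ι → ZMod 2)) (S : Set (O Q)) (v₀ : ι → ZMod 2) : Prop where
  aniso : Q v₀ ≠ 0
  conj : ∀ s ∈ S, refl Q v₀ * s * refl Q v₀ ∈ Subgroup.closure S
  orbit : ∀ u, Q u ≠ 0 → ∃ g ∈ Subgroup.closure S, app g v₀ = u

theorem le_closure (hQ : Q.polarBilin.Nondegenerate) (hgen : reflClosure Q = ⊤) {S : Set (O Q)}
    {v₀ : ι → ZMod 2} (hS : GenCert Q S v₀) (hSΩ : ∀ s ∈ S, s ∈ commutator (O Q)) :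
    commutator (O Q) ≤ Subgroup.closure S := by
  set H := Subgroup.closure S
  set r := refl Q v₀ with hr
  have hrr : r * r = 1 := refl_mul_self v₀
  have hrinv : r⁻¹ = r := refl_inv v₀
  have hconj : ∀ h ∈ H, r * h * r ∈ H := by
    intro h hh
    induction hh using Subgroup.closure_induction with
    | mem x hx => exact hS.conj x hx
    | one => rw [mul_one, hrr]; exact H.one_mem
    | mul x y _ _ ihx ihy =>
      have h2 := H.mul_mem ihx ihy
      have e : r * x * r * (r * y * r) = r * (x * y) * r := by
        simp only [mul_assoc]; rw [← mul_assoc r r, hrr, one_mul]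
      rwa [e] at h2
    | inv x _ ihx =>
      have h2 := H.inv_mem ihx
      rwa [_root_.mul_inv_rev, _root_.mul_inv_rev, hrinv, ← mul_assoc] at h2
  have hpair : ∀ u, Q u ≠ 0 → refl Q u * r ∈ H := by
    intro u hu
    obtain ⟨g, hg, rfl⟩ := hS.orbit u hu
    have h2 := H.mul_mem hg (hconj g⁻¹ (H.inv_mem hg))
    rw [← refl_conj, ← hr]
    have e : g * (r * g⁻¹ * r) = g * r * g⁻¹ * r := by simp only [mul_assoc]
    rwa [e] at h2
  have key : ∀ g : O Q, g ∈ H ∨ g * r ∈ H := by
    intro g
    have hg : g ∈ reflClosure Q := by rw [hgen]; trivial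
    have step : ∀ u (y : O Q), (y ∈ H ∨ y * r ∈ H) → refl Q u * y ∈ H ∨ refl Q u * y * r ∈ H := by
      intro u y ih
      rcases eq_or_ne (Q u) 0 with hu | hu
      · rwa [refl_eq_one hu, one_mul]
      rcases ih with ih | ih
      · right
        have h2 := H.mul_mem (hpair u hu) (hconj y ih)
        have e : refl Q u * r * (r * y * r) = refl Q u * y * r := by
          simp only [mul_assoc]; rw [← mul_assoc r r, hrr, one_mul]
        rwa [e] at h2
      · left
        have h2 := H.mul_mem (hpair u hu) (hconj _ ih)
        have e : refl Q u * r * (r * (y * r) * r) = refl Q u * y := by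
          simp only [mul_assoc, hrr, mul_one]; rw [← mul_assoc r r, hrr, one_mul]
        rwa [e] at h2
    induction hg using Subgroup.closure_induction_left with
    | one => exact Or.inl H.one_mem
    | mul_left x hx y _ ih => obtain ⟨u, rfl⟩ := hx; exact step u y ih
    | inv_mul_cancel x hx y _ ih => obtain ⟨u, rfl⟩ := hx; rw [refl_inv]; exact step u y ih
  intro g hg
  rcases key g with h | h
  · exact h
  · exfalso
    have hle : H ≤ commutator (O Q) := (Subgroup.closure_le _).mpr hSΩ
    have hrmem : r ∈ commutator (O Q) := by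
      have h2 := mul_mem (inv_mem hg) (hle h)
      rwa [inv_mul_cancel_left] at h2
    rw [commutator_eq_ker_dickson hQ hgen, MonoidHom.mem_ker, dicksonHom_refl hQ hgen hS.aniso] at hrmem
    exact absurd hrmem (by decide)

/-- odd powers of squares: elements `g` with `g = h * h` lie in `Ω` -/
theorem sq_mem_omega (hQ : Q.polarBilin.Nondegenerate) (hgen : reflClosure Q = ⊤) (h : O Q) :
    h * h ∈ commutator (O Q) := by
  rw [commutator_eq_ker_dickson hQ hgen, MonoidHom.mem_ker, map_mul, Int.units_mul_self]

theorem cobound_of_gens (hQ : Q.polarBilin.Nondegenerate) (hgen : reflClosure Q = ⊤)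
    {f : commutator (O Q) → (ι → ZMod 2)} (hf : IsCocycle f) {κ : Type} (L : κ → commutator (O Q))
    {v₀ : ι → ZMod 2} (hS : GenCert Q (Set.range fun i => (L i).1) v₀)
    (hL : ∃ v, ∀ i, f (L i) = app (L i).1 v - v) : IsCobound f := by
  obtain ⟨v, hv⟩ := hL
  refine ⟨v, fun g => sub_eq_zero.mp ?_⟩
  have hle : (Subgroup.closure (Set.range fun i => (L i).1)) ≤
      (kerSub (cocycle_sub hf v)).map (commutator (O Q)).subtype := by
    rw [Subgroup.closure_le]
    rintro _ ⟨i, rfl⟩
    exact ⟨L i, sub_eq_zero.mpr (hv i), rfl⟩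
  have h := hle (le_closure hQ hgen hS (by rintro _ ⟨i, rfl⟩; exact (L i).2) g.2)
  obtain ⟨g', hg', e⟩ := h
  obtain rfl : g' = g := Subtype.ext e
  exact hg'

end CfsgLib.HOne79
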