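import Mathlib
import Cfsg.Prelude.Def_Classical

/-!
Bit encodings of vectors and matrices over the field with two elements, for kernel computations.
-/

set_option autoImplicit false

namespace CfsgLib.HOne79

open Matrix

variable {ι : Type}

/-- the vector with bits `k` -/
def bitVec (e : ι → ℕ) (k : ℕ) : ι → ZMod 2 := fun i => (((k >>> e i) % 2 : ℕ) : ZMod 2)

/-- the matrix whose columns have bits `c` -/
def bitMat (e : ι → ℕ) (c : List ℕ) : Matrix ι ι (ZMod 2) :=
  Matrix.of fun i j => (((c.getD (e j) 0 >>> e i) % 2 : ℕ) : ZMod 2)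

/-- the bits of a vector -/
def encVec [Fintype ι] (e : ι → ℕ) (u : ι → ZMod 2) : ℕ := ∑ i, (u i).val * 2 ^ e i

theorem bitVec_surjective [Fintype ι] [DecidableEq ι] (e : ι → ℕ) (N : ℕ)
    (h : ∀ k : Fin N, encVec e (bitVec e k.1) = k.1) (hN : 2 ^ Fintype.card ι = N) (u : ι → ZMod 2) :
    ∃ k : Fin N, bitVec e k.1 = u := by
  have hinj : Function.Injective fun k : Fin N => bitVec e k.1 := fun a b hab =>
    Fin.ext (by rw [← h a, ← h b]; exact congrArg (encVec e) hab)
  have hbij : Function.Bijective fun k : Fin N => bitVec e k.1 := by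
    rw [Fintype.bijective_iff_injective_and_card]
    exact ⟨hinj, by simp [hN]⟩
  exact hbij.2 u

/-- multiply a vector by a word of matrices -/
def evalWord {κ : Type} [Fintype ι] (M : κ → Matrix ι ι (ZMod 2)) : List κ → (ι → ZMod 2) → (ι → ZMod 2)
  | [], x => x
  | a :: w, x => M a *ᵥ evalWord M w x

end CfsgLib.HOne79
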