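import Cfsg.Agent.Lib.HOne79.Basic
import Cfsg.Agent.Lib.HOne79.Bits

/-!
Turning bit certificates into the vanishing of `H¹(Ω(Q), V)`.
-/

set_option autoImplicit false
set_option linter.unusedSectionVars false

namespace CfsgLib.HOne79

open Matrix QuadraticMap CfsgLib.Orth

variable {ι : Type} [Fintype ι] [DecidableEq ι] {Q : QuadraticForm (ZMod 2) (ι → ZMod 2)}
variable {Q' : (ι → ZMod 2) → ZMod 2} {e : ι → ℕ} {N : ℕ}

/-- kernel-checkable data for a generating family of `Ω(Q)` -/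
structure BitData (Q' : (ι → ZMod 2) → ZMod 2) (e : ι → ℕ) (N : ℕ) where
  r : ℕ
  S : Fin r → Matrix ι ι (ZMod 2)
  Si : Fin r → Matrix ι ι (ZMod 2)
  R : Matrix ι ι (ZMod 2)
  v : ℕ
  conjWord : Fin r → List (Fin r)
  orbitWord : Fin N → List (Fin r)
  enc_dec : ∀ k : Fin N, encVec e (bitVec e k.1) = k.1
  card : 2 ^ Fintype.card ι = N
  mul_inv : ∀ i, S i * Si i = 1
  inv_mul : ∀ i, Si i * S i = 1
  pres : ∀ i, ∀ k : Fin N, Q' (S i *ᵥ bitVec e k.1) = Q' (bitVec e k.1)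
  anis : Q' (bitVec e v) = 1
  refl_eq : ∀ k : Fin N, R *ᵥ bitVec e k.1 =
    bitVec e k.1 - QuadraticMap.polar Q' (bitVec e k.1) (bitVec e v) • bitVec e v
  conj : ∀ i, R * (S i * S i) * R = ((conjWord i).map fun j => S j * S j).prod
  orbit : ∀ k : Fin N, Q' (bitVec e k.1) ≠ 0 →
    evalWord (fun j => S j * S j) (orbitWord k) (bitVec e v) = bitVec e k.1


theorem BitData.surj (D : BitData Q' e N) (u : ι → ZMod 2) : ∃ k : Fin N, bitVec e k.1 = u :=
  bitVec_surjective e N D.enc_dec D.card u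

/-- the isometry with matrix `S i` -/
def BitData.el (D : BitData Q' e N) (hQ' : ⇑Q = Q') (i : Fin D.r) : O Q :=
  ⟨⟨D.S i, D.Si i, D.mul_inv i, D.inv_mul i⟩, fun u _ => by
    obtain ⟨k, hk⟩ := D.surj u
    change Q (D.S i *ᵥ u) = Q u
    rw [hQ', ← hk]
    exact D.pres i k⟩


/-- the generators, inside `Ω(Q)` -/
def BitData.gen (D : BitData Q' e N) (hQ' : ⇑Q = Q') (hQ : Q.polarBilin.Nondegenerate) (hgen : reflClosure Q = ⊤) (i : Fin D.r) : commutator (O Q) :=
  ⟨D.el hQ' i * D.el hQ' i, sq_mem_omega hQ hgen _⟩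

theorem BitData.app_gen (D : BitData Q' e N) (hQ' : ⇑Q = Q') (hQ : Q.polarBilin.Nondegenerate) (hgen : reflClosure Q = ⊤) (i : Fin D.r) (x : ι → ZMod 2) :
    app (D.gen hQ' hQ hgen i).1 x = (D.S i * D.S i) *ᵥ x := by
  rw [app_apply]
  rfl

theorem BitData.app_word (D : BitData Q' e N) (hQ' : ⇑Q = Q') (hQ : Q.polarBilin.Nondegenerate) (hgen : reflClosure Q = ⊤) (w : List (Fin D.r)) (x : ι → ZMod 2) :
    app ((w.map fun j => (D.gen hQ' hQ hgen j).1).prod) x = evalWord (fun j => D.S j * D.S j) w x := by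
  induction w with
  | nil => simp [evalWord]
  | cons a w ih => rw [List.map_cons, List.prod_cons, app_mul, ih, D.app_gen hQ' hQ hgen, evalWord]

theorem BitData.app_prod (D : BitData Q' e N) (hQ' : ⇑Q = Q') (hQ : Q.polarBilin.Nondegenerate) (hgen : reflClosure Q = ⊤) (w : List (Fin D.r)) (x : ι → ZMod 2) :
    app ((w.map fun j => (D.gen hQ' hQ hgen j).1).prod) x = (w.map fun j => D.S j * D.S j).prod *ᵥ x := by
  induction w with
  | nil => simp
  | cons a w ih =>
    rw [List.map_cons, List.prod_cons, app_mul, ih, D.app_gen hQ' hQ hgen, List.map_cons,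
      List.prod_cons, Matrix.mulVec_mulVec]

theorem BitData.genCert (D : BitData Q' e N) (hQ' : ⇑Q = Q') (hQ : Q.polarBilin.Nondegenerate) (hgen : reflClosure Q = ⊤) :
    GenCert Q (Set.range fun i => (D.gen hQ' hQ hgen i).1) (bitVec e D.v) := by
  have hv : Q (bitVec e D.v) = 1 := by rw [hQ']; exact D.anis
  have hprod : ∀ w : List (Fin D.r), (w.map fun j => (D.gen hQ' hQ hgen j).1).prod ∈
      Subgroup.closure (Set.range fun i => (D.gen hQ' hQ hgen i).1) := by
    intro w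
    refine Subgroup.list_prod_mem _ fun x hx => ?_
    obtain ⟨j, -, rfl⟩ := List.mem_map.mp hx
    exact Subgroup.subset_closure ⟨j, rfl⟩
  have hR : ∀ x, app (refl Q (bitVec e D.v)) x = D.R *ᵥ x := by
    intro x
    obtain ⟨k, rfl⟩ := D.surj x
    rw [app_refl, hv, inv_one, one_mul, D.refl_eq k]
    subst hQ'
    rfl
  refine ⟨by rw [hv]; exact one_ne_zero, ?_, ?_⟩
  · rintro _ ⟨i, rfl⟩
    convert hprod (D.conjWord i) using 1
    refine ext_app fun x => ?_
    rw [app_mul, app_mul, D.app_prod hQ' hQ hgen, D.app_gen hQ' hQ hgen, hR, hR, ← D.conj i,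
      Matrix.mulVec_mulVec, Matrix.mulVec_mulVec]
  · intro u hu
    obtain ⟨k, rfl⟩ := D.surj u
    refine ⟨_, hprod (D.orbitWord k), ?_⟩
    rw [D.app_word hQ' hQ hgen, D.orbit k (by rw [← hQ']; exact hu)]

/-- the chain criterion, on bit data -/
theorem BitData.cobound_of_chain (D : BitData Q' e N) (hQ' : ⇑Q = Q') (hQ : Q.polarBilin.Nondegenerate) (hgen : reflClosure Q = ⊤) {n : ℕ} (p : Fin (n + 1) → Fin D.r) (hp : Function.Surjective p)
    (hfpf : ∀ i, ∀ k : Fin N, (D.S i * D.S i) *ᵥ bitVec e k.1 = bitVec e k.1 → bitVec e k.1 = 0)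
    (hc : ∀ i : Fin n, D.S (p i.castSucc) * D.S (p i.castSucc) * (D.S (p i.succ) * D.S (p i.succ)) =
      D.S (p i.succ) * D.S (p i.succ) * (D.S (p i.castSucc) * D.S (p i.castSucc)))
    {f : commutator (O Q) → (ι → ZMod 2)} (hf : IsCocycle f) : IsCobound f := by
  refine cobound_of_gens hQ hgen hf (D.gen hQ' hQ hgen) (D.genCert hQ' hQ hgen) ?_
  obtain ⟨v, hv⟩ := chain_cobound hf (fun i => D.gen hQ' hQ hgen (p i))
    (fun i x hx => by
      obtain ⟨k, rfl⟩ := D.surj x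
      rw [D.app_gen hQ' hQ hgen] at hx
      exact hfpf _ k hx)
    (fun i => by
      refine Subtype.ext (ext_app fun x => ?_)
      simp only [Subgroup.coe_mul, app_mul, D.app_gen hQ' hQ hgen, Matrix.mulVec_mulVec, hc i])
  exact ⟨v, fun i => by obtain ⟨j, rfl⟩ := hp i; exact hv j⟩

end CfsgLib.HOne79
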