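import Cfsg.Agent.Lib.HOne79.Cert

/-!
Certificates for `Ω⁻₄(2)`, `Ω⁻₆(2)` and `Ω⁺₈(2)`.
-/

set_option autoImplicit false
set_option maxHeartbeats 1000000

namespace CfsgLib.HOne79

/-- bit positions -/
def posMinus (m : ℕ) : (Fin m ⊕ Fin m) ⊕ Fin 2 → ℕ :=
  Sum.elim (Sum.elim (fun i => i.1) (fun i => m + i.1)) (fun k => 2 * m + k.1)

/-- bit positions -/
def posPlus (m : ℕ) : Fin m ⊕ Fin m → ℕ := Sum.elim (fun i => i.1) (fun i => m + i.1)

/-- certificate for `minusFour` -/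
def minusFourData : BitData (Cfsg.quadFormMinus 1 (ZMod 2) 1 1) (posMinus 1) 16 where
  r := 2
  S := fun i => bitMat (posMinus 1) (([[1, 11, 5, 13], [11, 1, 13, 8]] : List (List ℕ)).getD i.1 [])
  Si := fun i => bitMat (posMinus 1) (([[1, 15, 5, 12], [2, 11, 14, 8]] : List (List ℕ)).getD i.1 [])
  R := bitMat (posMinus 1) [2, 1, 4, 8]
  v := 3
  conjWord := fun i => (([[0, 1, 0, 1, 1, 0, 1, 0, 1], [1, 1]] : List (List (Fin 2))).getD i.1 [])
  orbitWord := fun k => (([[], [], [], [], [1, 0, 1, 1, 0], [1, 0], [0], [], [0, 1], [1], [1, 1], [], [1, 1, 0], [0, 1, 1, 0], [0, 1, 1], []] : List (List (Fin 2))).getD k.1 [])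
  enc_dec := by decide +kernel
  card := by decide +kernel
  mul_inv := by decide +kernel
  inv_mul := by decide +kernel
  pres := by decide +kernel
  anis := by decide +kernel
  refl_eq := by decide +kernel
  conj := by decide +kernel
  orbit := by decide +kernel

/-- certificate for `minusSix` -/
def minusSixData : BitData (Cfsg.quadFormMinus 2 (ZMod 2) 1 1) (posMinus 2) 64 where
  r := 6
  S := fun i => bitMat (posMinus 2) (([[59, 55, 42, 37, 47, 60], [3, 1, 42, 29, 33, 50], [59, 6, 2, 37, 54, 20], [42, 55, 62, 37, 47, 57], [42, 4, 6, 29, 36, 50], [2, 3, 62, 37, 51, 17]] : List (List ℕ)).getD i.1 [])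
  Si := fun i => bitMat (posMinus 2) (([[58, 53, 46, 45, 63, 28], [2, 3, 46, 21, 49, 18], [58, 4, 6, 45, 38, 52], [43, 53, 58, 45, 63, 25], [43, 6, 2, 21, 52, 18], [3, 1, 58, 45, 35, 49]] : List (List ℕ)).getD i.1 [])
  R := bitMat (posMinus 2) [4, 2, 1, 8, 16, 32]
  v := 5
  conjWord := fun i => (([[3], [4], [5], [0], [1], [2]] : List (List (Fin 6))).getD i.1 [])
  orbitWord := fun k => (([[], [], [], [], [], [], [], [0, 5, 1], [], [], [4, 5, 0], [0, 4], [], [5, 5, 0], [3, 1], [], [2, 4, 0], [3], [1, 2, 0], [2, 0, 4], [0], [], [5, 3, 1], [], [1, 2], [5, 0], [], [], [2, 3], [], [], [1, 0], [2, 0], [4, 1, 2], [4, 4, 0], [2, 4], [1, 1, 2], [], [5, 1], [], [0, 5, 0], [4], [], [], [1], [], [], [2, 3, 1], [2, 4, 4, 0], [3, 2], [1, 1, 2, 0], [1, 3], [0, 5], [], [4, 0], [], [0, 4, 0], [5], [], [], [2], [], [], [1, 5, 1]] : List (List (Fin 6))).getD k.1 [])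
  enc_dec := by decide +kernel
  card := by decide +kernel
  mul_inv := by decide +kernel
  inv_mul := by decide +kernel
  pres := by decide +kernel
  anis := by decide +kernel
  refl_eq := by decide +kernel
  conj := by decide +kernel
  orbit := by decide +kernel

/-- the chain of commuting fixed-point-free elements -/
def minusSixPath : Fin 11 → Fin minusSixData.r := fun i => (([0, 1, 0, 2, 0, 3, 4, 3, 5, 3, 0] : List (Fin 6)).getD i.1 0)

/-- certificate for `plusEight` -/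
def plusEightData : BitData (Cfsg.quadFormPlus 4 (ZMod 2)) (posPlus 4) 256 where
  r := 6
  S := fun i => bitMat (posPlus 4) (([[12, 195, 37, 40, 112, 8, 24, 22], [206, 195, 176, 112, 48, 16, 88, 148], [171, 88, 164, 93, 132, 52, 131, 48], [97, 210, 52, 40, 12, 8, 9, 7], [33, 210, 161, 97, 206, 1, 73, 133], [132, 73, 164, 93, 186, 37, 146, 33]] : List (List ℕ)).getD i.1 [])
  Si := fun i => bitMat (posPlus 4) (([[13, 193, 33, 32, 96, 40, 88, 150], [207, 193, 180, 120, 32, 48, 24, 20], [170, 90, 160, 85, 148, 20, 195, 176], [96, 208, 48, 32, 28, 40, 73, 135], [32, 208, 165, 105, 222, 33, 9, 5], [133, 75, 160, 85, 170, 5, 210, 161]] : List (List ℕ)).getD i.1 [])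
  R := bitMat (posPlus 4) [16, 2, 4, 8, 1, 32, 64, 128]
  v := 17
  conjWord := fun i => (([[3], [4], [5], [0], [1], [2]] : List (List (Fin 6))).getD i.1 [])
  orbitWord := fun k => (([[], [], [], [], [], [], [], [], [], [], [], [], [], [], [], [], [], [], [], [2, 2, 4, 1, 2, 1], [], [5, 2, 2, 1, 0], [], [2, 2, 4, 0], [], [0, 0, 5, 1], [], [1, 5, 1], [], [1, 2], [], [2, 1, 2, 4, 2], [], [], [2, 1, 2, 0], [1, 1, 2], [], [], [4, 4, 0, 5, 1], [4, 0, 5, 0], [], [], [0, 4, 2], [1, 0], [], [], [2, 4, 2, 1, 2], [5], [], [2, 1, 5, 1], [4, 1, 2], [], [], [1, 3, 2, 1, 2], [0, 5, 1, 0], [], [], [2, 3, 1], [4, 3], [], [], [1, 2, 4, 2, 1, 2], [2], [], [], [], [], [], [5, 0, 5, 1, 0], [3, 2, 4], [3, 1], [1, 0, 5], [], [], [], [], [1, 2, 1, 2, 1], [5, 1], [1, 5, 3, 1, 0], [0, 5, 1, 2], [], [1, 3, 1, 2, 1], [], [0, 5, 0], [0, 5, 1], [], [4, 3, 2], [], [], [4, 4, 5, 1, 0], [], [5, 3, 1, 0], [2, 4], [], [3, 2, 1, 2], [],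 [], [], [2, 1], [1, 3, 2, 4], [4, 1, 2, 1], [2, 3, 1, 0], [], [], [], [], [2, 4, 2, 1, 2, 1], [4, 5, 1, 2], [1, 2, 0], [0], [], [], [], [4, 5, 0], [4, 0, 5, 1], [], [5, 4, 4, 0], [], [], [2, 4, 1, 2, 1], [], [5, 2, 3, 3, 1, 0], [1, 2, 1, 2], [], [3], [], [], [2, 2, 3, 1], [], [], [], [], [], [], [], [], [2, 0], [5, 4, 2, 1], [4, 0, 5, 1, 0], [5, 2, 1, 0], [1, 0, 5, 1], [2, 2, 1], [1, 2, 4, 2], [4, 2, 3], [], [2, 2, 1, 2, 4, 2], [], [3, 3, 1, 0], [], [4, 2, 1, 2], [], [2, 4, 2], [2, 1, 2, 1], [], [2, 2, 1, 0], [], [5, 2, 1], [], [5, 1, 0], [], [], [], [5, 5, 1], [2, 3, 2, 2, 1], [], [], [3, 1, 2, 1], [5, 0], [1, 3, 2], [4, 4, 0], [], [], [1, 5, 0, 5, 1, 0], [2, 4, 3, 2], [], [], [], [2, 1, 0], [4, 2, 1, 2, 1], [], [], [5, 5, 1, 0], [2, 3], [], [3, 1, 0], [], [], [3, 2, 1, 2, 1], [5, 1, 0, 5], [], [], [2, 4, 0, 5, 1, 0], [], [], [], [], [4, 0], [5, 3, 3, 1, 0], [5, 3, 2, 1, 2], [4, 5, 1, 0], [4, 2, 4, 3,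 2], [0, 0, 4, 2], [5, 5, 0], [2, 1, 2], [], [], [], [], [], [5, 2, 2, 1], [], [2, 4, 0], [2, 3, 3, 1, 0], [], [4, 4, 5, 0], [], [5, 0, 5, 1], [], [5, 1, 2], [], [], [4, 4, 2], [], [1, 2, 1, 5, 1], [], [], [3, 2, 3, 3, 1, 0], [4, 2], [1, 1, 2, 0], [0, 5], [], [], [5, 2, 1, 2], [1, 2, 1], [], [], [], [], [2, 4, 4, 0, 5, 1], [1], [], [2, 1, 3, 2], [1, 5], [], [3, 2], [], [], [3, 2, 2, 1], [4, 2, 1], [], [], [2, 2, 4, 3, 2], [], [2, 1, 3, 1, 2, 1], [4], []] : List (List (Fin 6))).getD k.1 [])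
  enc_dec := by decide +kernel
  card := by decide +kernel
  mul_inv := by decide +kernel
  inv_mul := by decide +kernel
  pres := by decide +kernel
  anis := by decide +kernel
  refl_eq := by decide +kernel
  conj := by decide +kernel
  orbit := by decide +kernel

/-- the chain of commuting fixed-point-free elements -/
def plusEightPath : Fin 11 → Fin plusEightData.r := fun i => (([0, 1, 0, 2, 0, 3, 4, 3, 5, 3, 0] : List (Fin 6)).getD i.1 0)

end CfsgLib.HOne79
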